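import Cfsg.Agent.Lib.helper17.ONM.P2.Chk0
import Cfsg.Agent.Lib.helper17.ONM.P2.Chk1
import Cfsg.Agent.Lib.helper17.ONM.Valid
import Cfsg.Agent.Lib.helper17.ONM.P2.Pres

/-! the checks of the certificate (generated, helper17) -/

set_option autoImplicit false
set_option maxRecDepth 100000
set_option linter.unusedSimpArgs false
set_option Elab.async false

namespace Cfsg.Agent.Lib.helper17.ONM.P2

open Cfsg.Agent.Lib.Helper12.TC Cfsg.Agent.Lib.Helper12.TCG 

theorem hdefs_0 : defsPartK F 0 1973 = true := by decide +kernel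

theorem hdefs : defsK F cD = true :=
  defsK_of_OK (defsOK_step hdefs_0 rfl
    (defsOK_start F))

/-- the chunks of the certificate -/
def chunks : List (ℕ × List ℕ) :=
  [(1973, c0), (5973, c1)]

theorem hcover : coverK cD cK chunks = true := by decide +kernel

theorem hchunks : ∀ c ∈ chunks, chunkG cIV F RW cR0 c.2 c.1 = true := by
  unfold chunks
  simp only [List.forall_mem_cons, List.not_mem_nil, false_imp_iff, implies_true, and_true]
  exact ⟨chunk0, chunk1⟩

theorem hrelc : relCheckK RW cR0 cR baseL rotW sw = true := by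
  decide +kernel

theorem hletsw : lettersK 12 sw = true := by decide +kernel

theorem hiv : ivK cIV 12 = true := by decide +kernel

theorem htarget_0 : 6224 < cK ∧ fSrc (F 6224) = 0 ∧ fDst (F 6224) = 0 ∧ fSym (F 6224) = 8 := by decide +kernel

theorem htarget_1 : 2894 < cK ∧ fSrc (F 2894) = 0 ∧ fDst (F 2894) = 0 ∧ fSym (F 2894) = 9 := by decide +kernel

theorem htarget_2 : 6225 < cK ∧ fSrc (F 6225) = 0 ∧ fDst (F 6225) = 0 ∧ fSym (F 6225) = 10 := by decide +kernel

theorem htarget_3 : 7827 < cK ∧ fSrc (F 7827) = 0 ∧ fDst (F 7827) = 0 ∧ fSym (F 7827) = 11 := by decide +kernel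

/-- the letters of the targets lie in the subgroup -/
theorem cert_mem {G : Type*} [Group G] (v : ℕ → G) (hvinv : ∀ s < 12, v (invS cIV s) = (v s)⁻¹)
    (hvge : ∀ s, ¬ s < 12 → v s = 1) (hbase : ∀ b ∈ baseL, wprod v b = 1) (H : Subgroup G)
    (hH : ∀ w ∈ sw, wprod v w ∈ H) : v 8 ∈ H ∧ v 9 ∈ H ∧ v 10 ∈ H ∧ v 11 ∈ H := by
  have hv := Cfsg.Agent.Lib.helper17.ONM.onm_valid_all v 12 cIV (by norm_num) hiv hvinv hvge baseL hbase hlet sw hletsw H hH
    F RW rotW chunks cD cK cR0 cR hdefs hchunks hcover hrelc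
  exact ⟨Cfsg.Agent.Lib.helper17.ONM.onm_mem_of_valid v H F 6224 8 (hv 6224 htarget_0.1) htarget_0.2.1 htarget_0.2.2.1 htarget_0.2.2.2,
    Cfsg.Agent.Lib.helper17.ONM.onm_mem_of_valid v H F 2894 9 (hv 2894 htarget_1.1) htarget_1.2.1 htarget_1.2.2.1 htarget_1.2.2.2,
    Cfsg.Agent.Lib.helper17.ONM.onm_mem_of_valid v H F 6225 10 (hv 6225 htarget_2.1) htarget_2.2.1 htarget_2.2.2.1 htarget_2.2.2.2,
    Cfsg.Agent.Lib.helper17.ONM.onm_mem_of_valid v H F 7827 11 (hv 7827 htarget_3.1) htarget_3.2.1 htarget_3.2.2.1 htarget_3.2.2.2⟩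

end Cfsg.Agent.Lib.helper17.ONM.P2
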